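import Groth.Agent.Lib.ZarCoh.Induction
import Groth.Agent.Lib.DerivedOX.MVTriangle
import Groth.Agent.Lib.DerivedOX.OpenImm
import Groth.Agent.Lib.DerivedOX.RpushQCoh
import Groth.Agent.Lib.DerivedOX.TildeEquiv
import Groth.Agent.Lib.DerivedOX.QCohLocal
import Groth.Agent.Lib.DerivedOX.CompactUnit

/-!
# The inclusion `D_QCoh(O_X) ⥤ D(O_X)` has a right adjoint on quasi-compact quasi-separated schemes

The objects of `D(O_X)` admitting a universal map from `D_QCoh` are closed under triangles and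
contain the derived direct images from opens where the statement holds; Mayer–Vietoris and the
equivalence `D(R) ≅ D_QCoh(Spec R)` conclude.
-/

set_option autoImplicit false
set_option linter.unusedSectionVars false
set_option linter.style.haveILetI false

universe u

open CategoryTheory Limits AlgebraicGeometry Pretriangulated

attribute [local instance] HasDerivedCategory.standard

namespace Groth.Agent.Lib.QCohDAdj

open Groth.Agent.Lib

variable {X : Scheme.{u}}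

/-- `Y` admits a universal map from an object of `D_QCoh`. -/
def Def (Y : DCoh.D X) : Prop :=
  ∃ (Q : DCoh.D X) (q : Q ⟶ Y), DCoh.IsQCohD Q ∧
    ∀ K : DCoh.D X, DCoh.IsQCohD K → Function.Bijective fun g : K ⟶ Q => g ≫ q

lemma Def.of_iso {Y Y' : DCoh.D X} (h : Def Y) (e : Y ≅ Y') : Def Y' := by
  obtain ⟨Q, q, hQ, hb⟩ := h
  refine ⟨Q, q ≫ e.hom, hQ, fun K hK => ⟨fun g g' hg => (hb K hK).1 ?_, fun f => ?_⟩⟩
  · change g ≫ q ≫ e.hom = g' ≫ q ≫ e.hom at hg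
    simpa [← Category.assoc, cancel_mono] using hg
  · obtain ⟨g, hg⟩ := (hb K hK).2 (f ≫ e.inv)
    exact ⟨g, by change g ≫ q ≫ e.hom = f; rw [← Category.assoc, show g ≫ q = f ≫ e.inv from hg]; simp⟩

lemma bij_transport {α α' β β' : Type*} (e : α ≃ α') (e' : β ≃ β') {f : α → β} {f' : α' → β'}
    (h : ∀ a, e' (f a) = f' (e a)) (hf : Function.Bijective f) : Function.Bijective f' := by
  have : f' = e' ∘ f ∘ e.symm := funext fun a => by simp [h]
  exact this ▸ e'.bijective.comp (hf.comp e.symm.bijective)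

lemma bij_shift {K Q Y : DCoh.D X} (q : Q ⟶ Y)
    (hb : ∀ K : DCoh.D X, DCoh.IsQCohD K → Function.Bijective fun g : K ⟶ Q => g ≫ q)
    (hK : DCoh.IsQCohD K) : Function.Bijective fun g : K ⟶ Q⟦(1 : ℤ)⟧ => g ≫ q⟦(1 : ℤ)⟧' := by
  have h := hb _ (DerivedOX.CompactUnit.qcD_shift K (-1) hK)
  let E : DCoh.D X ≌ DCoh.D X := shiftEquiv (DCoh.D X) (1 : ℤ)
  have heq : ∀ g : (shiftFunctor (DCoh.D X) (-1 : ℤ)).obj K ⟶ Q,
      (E.symm.toAdjunction.homEquiv _ _) (g ≫ q) = (E.symm.toAdjunction.homEquiv _ _) g ≫ q⟦(1 : ℤ)⟧' :=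
    fun g => E.symm.toAdjunction.homEquiv_naturality_right g q
  exact bij_transport (E.symm.toAdjunction.homEquiv _ _) (E.symm.toAdjunction.homEquiv _ _) heq h

/-- Closure under triangles. -/
theorem def₃ (T : Triangle (DCoh.D X)) (hT : T ∈ distTriang (DCoh.D X)) (h₁ : Def T.obj₁)
    (h₂ : Def T.obj₂) : Def T.obj₃ := by
  obtain ⟨Q₁, q₁, hQ₁, b₁⟩ := h₁
  obtain ⟨Q₂, q₂, hQ₂, b₂⟩ := h₂
  obtain ⟨f, hf⟩ := (b₂ Q₁ hQ₁).2 (q₁ ≫ T.mor₁)
  change f ≫ q₂ = q₁ ≫ T.mor₁ at hf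
  obtain ⟨Q₃, p, δ, hS⟩ := distinguished_cocone_triangle f
  obtain ⟨q₃, hq, hδ⟩ : ∃ q₃ : Q₃ ⟶ T.obj₃, p ≫ q₃ = q₂ ≫ T.mor₂ ∧ δ ≫ q₁⟦(1 : ℤ)⟧' = q₃ ≫ T.mor₃ :=
    complete_distinguished_triangle_morphism _ _ hS hT q₁ q₂ hf
  refine ⟨Q₃, q₃, DerivedOX.TildeEquiv.isQCohD_mor₃ _ hS hQ₁ hQ₂, fun K hK => ⟨?_, fun h => ?_⟩⟩
  · intro g g' hgg
    rw [← sub_eq_zero]
    have h0 : (g - g') ≫ q₃ = 0 := by rw [Preadditive.sub_comp, sub_eq_zero]; exact hgg
    generalize g - g' = g at h0 ⊢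
    obtain ⟨a, ha⟩ : ∃ a : K ⟶ Q₂, g = a ≫ p := Triangle.coyoneda_exact₃ _ hS g (by
      apply (bij_shift q₁ b₁ hK).1
      change (g ≫ δ) ≫ q₁⟦(1 : ℤ)⟧' = 0 ≫ q₁⟦(1 : ℤ)⟧'
      rw [Category.assoc, hδ, ← Category.assoc, h0, zero_comp, zero_comp])
    obtain ⟨b, hb⟩ := Triangle.coyoneda_exact₂ _ hT (a ≫ q₂) (by
      rw [Category.assoc, ← hq, ← Category.assoc, ← ha, h0])
    obtain ⟨c, hc⟩ := (b₁ K hK).2 b
    change c ≫ q₁ = b at hc
    have : a = c ≫ f := (b₂ K hK).1 (by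
      change a ≫ q₂ = (c ≫ f) ≫ q₂
      rw [Category.assoc, hf, ← Category.assoc, hc, ← hb])
    have h' : f ≫ p = 0 := comp_distTriang_mor_zero₁₂ _ hS
    rw [ha, this, Category.assoc, h', comp_zero]
  · obtain ⟨c, hc⟩ := (bij_shift q₁ b₁ hK).2 (h ≫ T.mor₃)
    change c ≫ q₁⟦(1 : ℤ)⟧' = h ≫ T.mor₃ at hc
    have h1 : c ≫ f⟦(1 : ℤ)⟧' = 0 := (bij_shift q₂ b₂ hK).1 (by
      change (c ≫ f⟦(1 : ℤ)⟧') ≫ q₂⟦(1 : ℤ)⟧' = 0 ≫ q₂⟦(1 : ℤ)⟧'
      rw [Category.assoc, ← Functor.map_comp, hf, Functor.map_comp, ← Category.assoc, hc,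
        Category.assoc, comp_distTriang_mor_zero₃₁ _ hT, comp_zero, zero_comp])
    obtain ⟨g, hg⟩ : ∃ g : K ⟶ Q₃, c = g ≫ δ := Triangle.coyoneda_exact₁ _ hS c h1
    obtain ⟨a, ha⟩ := Triangle.coyoneda_exact₃ _ hT (h - g ≫ q₃) (by
      rw [Preadditive.sub_comp, Category.assoc, ← hδ, ← Category.assoc, ← hg, hc, sub_self])
    obtain ⟨a', ha'⟩ := (b₂ K hK).2 a
    change a' ≫ q₂ = a at ha'
    refine ⟨g + a' ≫ p, ?_⟩
    change (g + a' ≫ p) ≫ q₃ = h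
    rw [Preadditive.add_comp, Category.assoc, hq, ← Category.assoc, ha', ← ha, add_sub_cancel]

lemma def_of_isZero {Y : DCoh.D X} (h : IsZero Y) : Def Y :=
  ⟨Y, 𝟙 Y, fun i => DerivedOX.RpushQCoh.qc_of_isZero
        ((DerivedCategory.homologyFunctor X.Modules i).map_isZero h),
    fun K _ => ⟨fun g g' hg => by simpa using hg, fun f => ⟨f, by simp⟩⟩⟩

lemma def_shift (Y : DCoh.D X) (n : ℤ) (h : Def Y) : Def (Y⟦n⟧) := by
  obtain ⟨Q, q, hQ, b⟩ := h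
  refine ⟨Q⟦n⟧, q⟦n⟧', DerivedOX.CompactUnit.qcD_shift _ _ hQ, fun K hK => ?_⟩
  have h := b _ (DerivedOX.CompactUnit.qcD_shift K (-n) hK)
  let E : DCoh.D X ≌ DCoh.D X := shiftEquiv (DCoh.D X) n
  have heq : ∀ g : (shiftFunctor (DCoh.D X) (-n)).obj K ⟶ Q,
      (E.symm.toAdjunction.homEquiv _ _) (g ≫ q) = (E.symm.toAdjunction.homEquiv _ _) g ≫ q⟦n⟧' :=
    fun g => E.symm.toAdjunction.homEquiv_naturality_right g q
  exact bij_transport (E.symm.toAdjunction.homEquiv _ _) (E.symm.toAdjunction.homEquiv _ _) heq h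

lemma def₂ (T : Triangle (DCoh.D X)) (hT : T ∈ distTriang (DCoh.D X)) (h₁ : Def T.obj₁)
    (h₃ : Def T.obj₃) : Def T.obj₂ :=
  def₃ T.invRotate (inv_rot_of_distTriang _ hT) (def_shift _ _ h₃) h₁

lemma def_biprod {A B : DCoh.D X} (hA : Def A) (hB : Def B) : Def (A ⊞ B) :=
  def₂ _ (binaryBiproductTriangle_distinguished A B) hA hB

/-- Derived direct images along open immersions. -/
theorem def_Rpush {U : Scheme.{u}} (j : U ⟶ X) [IsOpenImmersion j] [QuasiCompact j]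
    [QuasiSeparated j] [DCoh.HasRpush j] {L : DCoh.D U} (hL : Def L) :
    Def ((DCoh.Rpush j).obj L) := by
  obtain ⟨Q, q, hQ, b⟩ := hL
  refine ⟨(DCoh.Rpush j).obj Q, (DCoh.Rpush j).map q, DerivedOX.RpushQCoh.isQCohD_Rpush j Q hQ,
    fun K hK => ?_⟩
  have h := b _ (DerivedOX.QCohLocal.isQCohD_restrictD j hK)
  let adj := DerivedOX.OpenImm.restrictPushAdj j
  have heq : ∀ g : (DCoh.restrictD j).obj K ⟶ Q,
      (adj.homEquiv _ _) (g ≫ q) = (adj.homEquiv _ _) g ≫ (DCoh.Rpush j).map q :=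
    fun g => adj.homEquiv_naturality_right g q
  exact bij_transport (adj.homEquiv _ _) (adj.homEquiv _ _) heq h

/-- Affine case. -/
theorem def_spec (R : CommRingCat.{u}) (Y : DCoh.D (Spec (CommRingCat.of R))) : Def Y := by
  haveI : PreservesFiniteLimits (tilde.functor R) := QCoh.Tilde.tildeFunctor_preservesFiniteLimits ..
  haveI := DerivedOX.TildeEquiv.full R
  haveI := DerivedOX.TildeEquiv.faithful R
  let adj := DerCat.DerAdj.derivedAdj (tilde.adjunction (R := R))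
  refine ⟨(DCoh.tildeD R).obj _, adj.counit.app Y, DerivedOX.TildeEquiv.isQCohD_obj R _,
    fun K hK => ?_⟩
  obtain ⟨M, ⟨e⟩⟩ := DerivedOX.TildeEquiv.exists_preimage R K hK
  constructor
  · intro g g' hg
    rw [← cancel_epi e.hom]
    obtain ⟨a, ha⟩ := (DCoh.tildeD R).map_surjective (e.hom ≫ g)
    obtain ⟨a', ha'⟩ := (DCoh.tildeD R).map_surjective (e.hom ≫ g')
    rw [← ha, ← ha']
    congr 1
    apply (adj.homEquiv _ _).symm.injective
    rw [Adjunction.homEquiv_counit, Adjunction.homEquiv_counit]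
    change (DCoh.tildeD R).map a ≫ _ = (DCoh.tildeD R).map a' ≫ _
    rw [ha, ha', Category.assoc, Category.assoc]
    exact congrArg (e.hom ≫ ·) hg
  · intro f
    refine ⟨e.inv ≫ (DCoh.tildeD R).map (adj.homEquiv _ _ (e.hom ≫ f)), ?_⟩
    change (e.inv ≫ _) ≫ adj.counit.app Y = f
    rw [Category.assoc]
    have := (Adjunction.homEquiv_counit adj _ _ (adj.homEquiv _ _ (e.hom ≫ f))).symm
    rw [Equiv.symm_apply_apply] at this
    exact (congrArg (e.inv ≫ ·) this).trans (Iso.inv_hom_id_assoc e f)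

end Groth.Agent.Lib.QCohDAdj
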