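import Groth.Agent.Lib.QCohDAdj.Basic

/-!
# The right adjoint of `D_QCoh(O_X) ⥤ D(O_X)`
-/

set_option autoImplicit false
set_option linter.unusedSectionVars false
set_option linter.style.haveILetI false

universe u

open CategoryTheory Limits AlgebraicGeometry Pretriangulated

attribute [local instance] HasDerivedCategory.standard

namespace Groth.Agent.Lib.QCohDAdj

open Groth.Agent.Lib

variable {X : Scheme.{u}}

/-- Transport along an isomorphism of schemes. -/
theorem def_of_iso {A : Scheme.{u}} (k : A ⟶ X) [IsIso k] (hA : ∀ L : DCoh.D A, Def L)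
    (Y : DCoh.D X) : Def Y := by
  haveI := DerivedOX.Exists.hasRpush k
  let η := (DerivedOX.OpenImm.restrictPushAdj k).unit.app Y
  haveI : IsIso η := by
    obtain ⟨C, g, d, hT⟩ := distinguished_cocone_triangle η
    refine (Triangle.isZero₃_iff_isIso₁ _ hT).1 ?_
    have hC : IsZero ((DCoh.restrictD k).obj C) := by
      refine (Triangle.isZero₃_iff_isIso₁ _ ((DCoh.restrictD k).map_distinguished _ hT)).2 ?_
      haveI := DerivedOX.OpenImm.isIso_restrictPushAdj_counit k
      have hε := @NatIso.isIso_app_of_isIso _ _ _ _ _ _ (DerivedOX.OpenImm.restrictPushAdj k).counit this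
        ((DCoh.restrictD k).obj Y)
      have h := (DerivedOX.OpenImm.restrictPushAdj k).left_triangle_components Y
      exact (@isIso_comp_right_iff _ _ _ _ _ _ _ hε).1 (h ▸ IsIso.id _)
    haveI : (Scheme.Modules.restrictFunctor k).Full := (DerivedOX.OpenImm.isoEquiv (asIso k).symm).full_functor
    haveI : (Scheme.Modules.restrictFunctor k).Faithful := (DerivedOX.OpenImm.isoEquiv (asIso k).symm).faithful_functor
    exact DerivedOX.OpenSupport.isZero_of_homology C fun n =>
      IsZero.of_full_of_faithful_of_isZero (Scheme.Modules.restrictFunctor k) _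
        (((DerivedCategory.homologyFunctor _ n).map_isZero hC).of_iso
          (Perfect.Coherent.homologyIso k C n).symm)
  exact (def_Rpush k (hA _)).of_iso (asIso η).symm

/-- The statement for every open immersion onto `W`. -/
def Ok (W : X.Opens) : Prop :=
  IsCompact (W : Set X) ∧ ∀ (Y : Scheme.{u}) (j : Y ⟶ X) [IsOpenImmersion j], j.opensRange = W →
    ∀ L : DCoh.D Y, Def L

theorem ok_affine {W : X.Opens} (hW : IsAffineOpen W) : Ok W := by
  refine ⟨hW.isCompact, fun Y j _ hj => ?_⟩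
  subst hj
  haveI : IsAffine (j.opensRange : Scheme.{u}) := hW
  haveI : IsAffine Y := IsAffine.of_isIso j.isoOpensRange.hom
  exact def_of_iso Y.isoSpec.inv (def_spec _)

theorem ok_sup [QuasiSeparatedSpace X] {U V : X.Opens} (hU : Ok U) (hV : Ok V) (hI : Ok (U ⊓ V)) :
    Ok (U ⊔ V) := by
  refine ⟨by rw [TopologicalSpace.Opens.coe_sup]; exact hU.1.union hV.1, fun Y j _ hj L => ?_⟩
  have hUV : (j ⁻¹ᵁ U) ⊔ (j ⁻¹ᵁ V) = ⊤ := by
    change j ⁻¹ᵁ (U ⊔ V) = ⊤
    rw [← hj, Scheme.Hom.preimage_opensRange]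
  haveI : QuasiSeparatedSpace Y :=
    QuasiSeparatedSpace.of_isOpenEmbedding j.isOpenEmbedding
  haveI : ∀ P : Y.Opens, DCoh.HasRpush P.ι := fun P => DerivedOX.Exists.hasRpush P.ι
  have hpush : ∀ (W : X.Opens), Ok W → W ≤ U ⊔ V → ∀ (P : Y.Opens), P = j ⁻¹ᵁ W →
      ∀ L' : DCoh.D (P : Scheme.{u}), Def ((DCoh.Rpush P.ι).obj L') := fun W hW hle P hP L' => by
    subst hP
    have hr : ((j ⁻¹ᵁ W).ι ≫ j).opensRange = W := by
      rw [Scheme.Hom.opensRange_comp, Scheme.Opens.opensRange_ι,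
        Scheme.Hom.image_preimage_eq_opensRange_inf, hj, inf_eq_right.2 hle]
    have hc : IsCompact ((j ⁻¹ᵁ W : Y.Opens) : Set Y) :=
      j.isOpenEmbedding.isInducing.isCompact_preimage' hW.1 fun x hx => by
        have : x ∈ j.opensRange := hj.symm ▸ hle hx
        exact this
    haveI : QuasiCompact (j ⁻¹ᵁ W).ι := quasiCompact_iff_forall_isAffineOpen.2 fun A hA => by
      rw [(j ⁻¹ᵁ W).ι.isOpenEmbedding.isInducing.isCompact_iff]
      change IsCompact ((j ⁻¹ᵁ W).ι '' ((j ⁻¹ᵁ W).ι ⁻¹' (A : Set Y)))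
      rw [Set.image_preimage_eq_inter_range, Scheme.Opens.range_ι]
      exact QuasiSeparatedSpace.inter_isCompact _ _ A.isOpen hA.isCompact (j ⁻¹ᵁ W).isOpen hc
    exact def_Rpush _ (hW.2 _ _ hr L')
  obtain ⟨a, b, c, hT⟩ := DerivedOX.MVTriangle.exists_mv_triangle (j ⁻¹ᵁ U) (j ⁻¹ᵁ V) hUV L
  refine def₂ (Triangle.mk a b c).invRotate (inv_rot_of_distTriang _ hT) ?_ ?_
  · exact def_shift _ (-1) (hpush _ hI (inf_le_left.trans le_sup_left) _ rfl _)
  · exact def_biprod (hpush U hU le_sup_left _ rfl _) (hpush V hV le_sup_right _ rfl _)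

theorem exists_universal [CompactSpace X] [QuasiSeparatedSpace X] (Y : DCoh.D X) : Def Y := by
  have h : Ok (⊤ : X.Opens) := ZarCoh.Induction.induction ⊤
    (by rw [TopologicalSpace.Opens.coe_top]; exact isQuasiSeparated_univ) Ok
    (fun U _ hU => ok_affine hU) (fun U V _ _ _ _ hU hV hI => ok_sup hU hV hI) ⊤ le_rfl
    (by rw [TopologicalSpace.Opens.coe_top]; exact isCompact_univ)
  exact h.2 X (𝟙 X) (Scheme.Hom.opensRange_of_isIso (𝟙 X)) Y

/-- The inclusion of `D_QCoh(O_X)` is a left adjoint. -/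
theorem isLeftAdjoint [CompactSpace X] [QuasiSeparatedSpace X] :
    (ObjectProperty.ι (DCoh.IsQCohD (X := X))).IsLeftAdjoint := by
  apply Functor.isLeftAdjoint_of_rightAdjointObjIsDefined_eq_top
  ext Y
  simp only [Pi.top_apply, Prop.top_eq_true, iff_true]
  obtain ⟨Q, q, hQ, hb⟩ := exists_universal Y
  exact Functor.RepresentableBy.isRepresentable
    (F := (ObjectProperty.ι (DCoh.IsQCohD (X := X))).op ⋙ yoneda.obj Y) (Y := ⟨Q, hQ⟩)
    { homEquiv := fun {K} =>
        (⟨fun f => f.hom, fun f => ObjectProperty.homMk f, fun _ => rfl, fun _ => rfl⟩ :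
          (K ⟶ ⟨Q, hQ⟩) ≃ (K.obj ⟶ Q)).trans (Equiv.ofBijective _ (hb K.obj K.property))
      homEquiv_comp := fun f g => Category.assoc f.hom g.hom q }

end Groth.Agent.Lib.QCohDAdj
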